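import Groth.Agent.Lib.LC.Cd
import Mathlib.Algebra.Category.ModuleCat.Monoidal.Closed
import Mathlib.Algebra.Category.ModuleCat.ChangeOfRings
import Mathlib.CategoryTheory.Adjunction.Basic

/-!
# Top local cohomology is a tensor product
-/

set_option autoImplicit false
set_option linter.style.haveILetI false

universe u

open CategoryTheory TensorProduct MonoidalCategory

namespace GrothLib.LCTop3

variable {S : Type u} [CommRing S] [IsNoetherianRing S] (J : Ideal S) (d : ℕ)

/-- The top local cohomology of the ring. -/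
noncomputable abbrev H₀ : ModuleCat.{u} S := (localCohomology J d).obj (ModuleCat.of S S)

/-- The map `H^d_J(S) ⊗ M ⟶ H^d_J(M)`. -/
noncomputable def θ (M : ModuleCat.{u} S) : H₀ J d ⊗[S] M →ₗ[S] (localCohomology J d).obj M :=
  TensorProduct.lift (LinearMap.mk₂ S
    (fun h m => (localCohomology J d).map (ModuleCat.ofHom (LinearMap.toSpanSingleton S M m)) h)
    (fun h h' m => map_add _ h h') (fun c h m => map_smul _ c h)
    (fun h m m' => by
      rw [← GrothLib.LC.map_add_apply]
      exact congrArg (fun φ => (localCohomology J d).map φ h)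
        (ModuleCat.hom_ext (LinearMap.ext fun s => by simp)))
    (fun c h m => by
      rw [← GrothLib.LC.map_smul_apply]
      exact congrArg (fun φ => (localCohomology J d).map φ h)
        (ModuleCat.hom_ext (LinearMap.ext fun s => by simp [smul_comm c s]))))

theorem θ_tmul (M : ModuleCat.{u} S) (h : H₀ J d) (m : M) :
    θ J d M (h ⊗ₜ m) =
      (localCohomology J d).map (ModuleCat.ofHom (LinearMap.toSpanSingleton S M m)) h := rfl

theorem θ_natural {M N : ModuleCat.{u} S} (f : M ⟶ N) (x : H₀ J d ⊗[S] M) :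
    (localCohomology J d).map f (θ J d M x) = θ J d N (f.hom.lTensor (H₀ J d) x) := by
  induction x using TensorProduct.induction_on with
  | zero => simp
  | add x y hx hy => simp only [map_add, hx, hy]
  | tmul h m =>
    rw [LinearMap.lTensor_tmul, θ_tmul, θ_tmul, ← GrothLib.LC.map_comp_apply]
    exact congrArg (fun φ => (localCohomology J d).map φ h)
      (ModuleCat.hom_ext (LinearMap.ext fun s => by simp))

theorem θ_surjective_free (ι : Type u) :
    Function.Surjective (θ J d (ModuleCat.of S (ι →₀ S))) := by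
  classical
  intro x
  let F := ModuleCat.of S (ι →₀ S)
  let A : Finset ι →o Submodule S (ι →₀ S) :=
    ⟨fun s => Finsupp.supported S S (s : Set ι), fun s t hst => Finsupp.supported_mono hst⟩
  obtain ⟨s, y, rfl⟩ := GrothLib.LC.exists_map_subtype J (M := F) A
    (fun f => ⟨f.support, (Finsupp.mem_supported S f).2 (subset_refl _)⟩) d x
  let p : ι → (ModuleCat.of S (A s) ⟶ ModuleCat.of S S) :=
    fun j => ModuleCat.ofHom (Finsupp.lapply j ∘ₗ (A s).subtype)
  let q : ι → (ModuleCat.of S S ⟶ F) :=
    fun j => ModuleCat.ofHom (LinearMap.toSpanSingleton S (ι →₀ S) (Finsupp.single j 1))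
  have hid : (ModuleCat.ofHom (A s).subtype : ModuleCat.of S (A s) ⟶ F) = ∑ j ∈ s, p j ≫ q j := by
    refine ModuleCat.hom_ext (LinearMap.ext fun v => ?_)
    rw [ModuleCat.hom_sum, LinearMap.sum_apply]
    conv_lhs => rw [ModuleCat.hom_ofHom, Submodule.subtype_apply, ← Finsupp.sum_single v.1,
      Finsupp.sum_of_support_subset _ v.2 _ (fun _ _ => Finsupp.single_zero _)]
    refine Finset.sum_congr rfl fun j _ => ?_
    simp [p, q]
  refine ⟨∑ j ∈ s, ((localCohomology J d).map (p j) y) ⊗ₜ[S] (Finsupp.single j 1), ?_⟩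
  rw [hid, GrothLib.LC.map_sum_apply, map_sum]
  refine Finset.sum_congr rfl fun j _ => ?_
  rw [θ_tmul, GrothLib.LC.map_comp_apply]

theorem θ_injective_free (ι : Type u) :
    Function.Injective (θ J d (ModuleCat.of S (ι →₀ S))) := by
  classical
  rw [injective_iff_map_eq_zero]
  intro x hx
  refine (TensorProduct.finsuppScalarRight S S (H₀ J d) ι).injective ?_
  rw [map_zero]
  ext j
  rw [Finsupp.zero_apply]
  have key : ∀ z : H₀ J d ⊗[S] (ι →₀ S),
      (localCohomology J d).map (ModuleCat.ofHom (Finsupp.lapply j) : ModuleCat.of S (ι →₀ S) ⟶ _)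
        (θ J d (ModuleCat.of S (ι →₀ S)) z) = TensorProduct.finsuppScalarRight S S (H₀ J d) ι z j := by
    intro z
    induction z using TensorProduct.induction_on with
    | zero => simp
    | add a b ha hb =>
      rw [map_add, map_add (TensorProduct.finsuppScalarRight S S (H₀ J d) ι), Finsupp.add_apply, ← ha, ← hb]
      exact map_add _ _ _
    | tmul h f =>
      rw [θ_tmul, ← GrothLib.LC.map_comp_apply, TensorProduct.finsuppScalarRight_apply_tmul_apply]
      have : (ModuleCat.ofHom (LinearMap.toSpanSingleton S (ι →₀ S) f) ≫ ModuleCat.ofHom (Finsupp.lapply j) :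
          ModuleCat.of S S ⟶ ModuleCat.of S S) = f j • 𝟙 _ :=
        ModuleCat.hom_ext (LinearMap.ext fun s => by simp [mul_comm])
      rw [this, GrothLib.LC.map_smul_apply, GrothLib.LC.map_id_apply]
  rw [← key x, hx, map_zero]

variable {J d}

/-- In top degree local cohomology is the tensor product with that of the ring. -/
theorem θ_bijective (hd : LocCoh.CdLE S J d) (M : ModuleCat.{u} S) :
    Function.Bijective (θ J d M) := by
  classical
  have hsurj : ∀ M : ModuleCat.{u} S, Function.Surjective (θ J d M) := by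
    intro M x
    let π : (M →₀ S) →ₗ[S] M := Finsupp.linearCombination S id
    let Sc := ShortComplex.mk (X₁ := ModuleCat.of S (LinearMap.ker π))
      (X₂ := ModuleCat.of S (M →₀ S)) (X₃ := M) (ModuleCat.ofHom (LinearMap.ker π).subtype)
      (ModuleCat.ofHom π) (ModuleCat.hom_ext (LinearMap.ext fun z => z.2))
    have hS : Sc.ShortExact :=
      { exact := (ShortComplex.moduleCat_exact_iff _).2 fun z hz => ⟨⟨z, hz⟩, rfl⟩
        mono_f := (ModuleCat.mono_iff_injective _).2 (Submodule.injective_subtype _)
        epi_g := (ModuleCat.epi_iff_surjective _).2 fun (m : M) => ⟨Finsupp.single m 1, (by simp [π] : π (Finsupp.single m 1) = m)⟩ }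
    haveI := hd (LinearMap.ker π) (d + 1) (Nat.lt_succ_self d)
    obtain ⟨y, hy⟩ := GrothLib.LC.exists_of_δ_eq_zero J hS d (x := x) (Subsingleton.elim (α := LocCoh.H J (d + 1) (LinearMap.ker π)) _ _)
    obtain ⟨w, rfl⟩ := θ_surjective_free J d M y
    exact ⟨_, ((θ_natural J d Sc.g w).symm.trans hy)⟩
  refine ⟨?_, hsurj M⟩
  rw [injective_iff_map_eq_zero]
  intro z hz
  let π : (M →₀ S) →ₗ[S] M := Finsupp.linearCombination S id
  have hπ : Function.Surjective π := fun m => ⟨Finsupp.single m 1, by simp [π]⟩
  let Sc := ShortComplex.mk (X₁ := ModuleCat.of S (LinearMap.ker π))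
    (X₂ := ModuleCat.of S (M →₀ S)) (X₃ := M) (ModuleCat.ofHom (LinearMap.ker π).subtype)
    (ModuleCat.ofHom π) (ModuleCat.hom_ext (LinearMap.ext fun z => z.2))
  have hS : Sc.ShortExact :=
    { exact := (ShortComplex.moduleCat_exact_iff _).2 fun z hz => ⟨⟨z, hz⟩, rfl⟩
      mono_f := (ModuleCat.mono_iff_injective _).2 (Submodule.injective_subtype _)
      epi_g := (ModuleCat.epi_iff_surjective _).2 hπ }
  obtain ⟨w, rfl⟩ := LinearMap.lTensor_surjective (H₀ J d) hπ z
  have h1 : (localCohomology J d).map Sc.g (θ J d (ModuleCat.of S (M →₀ S)) w) = 0 :=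
    (θ_natural J d Sc.g w).trans hz
  obtain ⟨y, hy⟩ := GrothLib.LC.exists_of_map_g_eq_zero J hS d h1
  obtain ⟨v, rfl⟩ := hsurj _ y
  have h2 := θ_injective_free J d M ((θ_natural J d Sc.f v).symm.trans hy)
  rw [← h2]
  show π.lTensor (H₀ J d) ((LinearMap.ker π).subtype.lTensor (H₀ J d) v) = 0
  rw [← LinearMap.lTensor_comp_apply, LinearMap.comp_ker_subtype, LinearMap.lTensor_zero]
  rfl

/-- In top degree local cohomology is tensoring with that of the ring. -/
noncomputable def tensorIso (hd : LocCoh.CdLE S J d) :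
    tensorLeft (H₀ J d) ≅ localCohomology J d :=
  NatIso.ofComponents (fun M => (LinearEquiv.ofBijective (θ J d M) (θ_bijective hd M)).toModuleIso)
    (fun {M N} f => ModuleCat.hom_ext (LinearMap.ext fun x => (θ_natural J d f x).symm))

theorem isLeftAdjoint (hd : LocCoh.CdLE S J d) : (localCohomology J d).IsLeftAdjoint :=
  Functor.isLeftAdjoint_of_iso (tensorIso hd)

/-- Maps from top local cohomology, restricted along `R → S`, form a representable functor. -/
theorem isRepresentable (hd : LocCoh.CdLE S J d) {R : Type u} [CommRing R] (f : R →+* S)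
    (F : ModuleCat.{u} R) :
    ((localCohomology J d ⋙ ModuleCat.restrictScalars f).op ⋙ yoneda.obj F).IsRepresentable := by
  haveI := isLeftAdjoint hd
  haveI : (localCohomology J d ⋙ ModuleCat.restrictScalars f).IsLeftAdjoint := inferInstance
  exact Functor.IsRepresentable.mk'
    ((Adjunction.ofIsLeftAdjoint (localCohomology J d ⋙ ModuleCat.restrictScalars f)).compYonedaIso.app F)

end GrothLib.LCTop3
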